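import Mathlib
import Groth.Prelude.Def_FEt
import Groth.Agent.Lib.Helper7.Glue2C

set_option linter.style.haveILetI false
set_option linter.unusedVariables false
set_option linter.unusedSectionVars false
set_option autoImplicit false
set_option backward.isDefEq.respectTransparency.types false
set_option synthInstance.maxHeartbeats 400000
set_option maxHeartbeats 1600000

universe u

/-! helper7: gluing two schemes over two opens of a base along an open piece over the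
intersection: the glued scheme over the union restricts to the given ones; properties local on
the target; the preimage of an open under the canonical morphism from the local scheme at a point
whose proper generizations lie in the open is the punctured spectrum -/

open CategoryTheory CategoryTheory.Limits AlgebraicGeometry Opposite TopologicalSpace

namespace Groth.Agent.Helper7.PurExt

section Glue

variable {X : Scheme.{u}} (U₁ U₂ : X.Opens) {Y₁ Y₂ A : Scheme.{u}}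
  (v₁ : Y₁ ⟶ (U₁ : Scheme.{u})) (v₂ : Y₂ ⟶ (U₂ : Scheme.{u}))
  (f₁ : A ⟶ Y₁) (f₂ : A ⟶ Y₂) [IsOpenImmersion f₁] [IsOpenImmersion f₂]

theorem mem_of_ι_mem {U : X.Opens} (t : (U : Scheme.{u})) : U.ι t ∈ U := by
  have h : U.ι t ∈ Set.range U.ι := ⟨t, rfl⟩
  rw [Scheme.Opens.range_ι] at h
  exact h

/-- gluing two schemes over two opens along an open piece lying over the intersection. -/
theorem exists_glue (hcomm : f₁ ≫ v₁ ≫ U₁.ι = f₂ ≫ v₂ ≫ U₂.ι)
    (h₁ : ∀ y : Y₁, (v₁ ≫ U₁.ι) y ∈ U₂ → y ∈ Set.range f₁)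
    (h₂ : ∀ y : Y₂, (v₂ ≫ U₂.ι) y ∈ U₁ → y ∈ Set.range f₂) :
    ∃ (Y : Scheme.{u}) (g : Y ⟶ ((U₁ ⊔ U₂ : X.Opens) : Scheme.{u})) (p₁ : Y₁ ⟶ Y) (p₂ : Y₂ ⟶ Y),
      IsPullback p₁ v₁ g (X.homOfLE le_sup_left) ∧
        IsPullback p₂ v₂ g (X.homOfLE le_sup_right) := by
  obtain ⟨j₁, hj₁⟩ : ∃ j₁ : (U₁ : Scheme.{u}) ⟶ ((U₁ ⊔ U₂ : X.Opens) : Scheme.{u}),
      j₁ = X.homOfLE le_sup_left := ⟨_, rfl⟩
  obtain ⟨j₂, hj₂⟩ : ∃ j₂ : (U₂ : Scheme.{u}) ⟶ ((U₁ ⊔ U₂ : X.Opens) : Scheme.{u}),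
      j₂ = X.homOfLE le_sup_right := ⟨_, rfl⟩
  have hj₁ι : j₁ ≫ (U₁ ⊔ U₂).ι = U₁.ι := by rw [hj₁]; exact X.homOfLE_ι _
  have hj₂ι : j₂ ≫ (U₁ ⊔ U₂).ι = U₂.ι := by rw [hj₂]; exact X.homOfLE_ι _
  haveI : IsOpenImmersion j₁ := by rw [hj₁]; infer_instance
  haveI : IsOpenImmersion j₂ := by rw [hj₂]; infer_instance
  have hab : f₁ ≫ v₁ ≫ j₁ = f₂ ≫ v₂ ≫ j₂ := by
    rw [← cancel_mono (U₁ ⊔ U₂).ι]
    simp only [Category.assoc, hj₁ι, hj₂ι]
    exact hcomm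
  obtain ⟨g, hg1, hg2⟩ : ∃ g : pushout f₁ f₂ ⟶ ((U₁ ⊔ U₂ : X.Opens) : Scheme.{u}),
      pushout.inl f₁ f₂ ≫ g = v₁ ≫ j₁ ∧ pushout.inr f₁ f₂ ≫ g = v₂ ≫ j₂ :=
    ⟨pushout.desc (v₁ ≫ j₁) (v₂ ≫ j₂) (by simpa only [Category.assoc] using hab),
      pushout.inl_desc _ _ _, pushout.inr_desc _ _ _⟩
  have hg1p : ∀ a : Y₁, g (pushout.inl f₁ f₂ a) = j₁ (v₁ a) := fun a => by
    rw [← Scheme.Hom.comp_apply, hg1, Scheme.Hom.comp_apply]
  have hg2p : ∀ b : Y₂, g (pushout.inr f₁ f₂ b) = j₂ (v₂ b) := fun b => by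
    rw [← Scheme.Hom.comp_apply, hg2, Scheme.Hom.comp_apply]
  have hι1 : ∀ t : (U₁ : Scheme.{u}), (U₁ ⊔ U₂).ι (j₁ t) = U₁.ι t := fun t => by
    rw [← Scheme.Hom.comp_apply, hj₁ι]
  have hι2 : ∀ t : (U₂ : Scheme.{u}), (U₁ ⊔ U₂).ι (j₂ t) = U₂.ι t := fun t => by
    rw [← Scheme.Hom.comp_apply, hj₂ι]
  have hcond : ∀ a : A, pushout.inl f₁ f₂ (f₁ a) = pushout.inr f₁ f₂ (f₂ a) := fun a => by
    rw [← Scheme.Hom.comp_apply, ← Scheme.Hom.comp_apply, pushout.condition]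
  refine ⟨pushout f₁ f₂, g, pushout.inl f₁ f₂, pushout.inr f₁ f₂, ?_, ?_⟩
  · rw [← hj₁]
    refine (IsOpenImmersion.isPullback v₁ (pushout.inl f₁ f₂) j₁ g hg1 ?_).flip
    ext y
    constructor
    · intro hy
      have hy' : g y ∈ Set.range j₁ := hy
      obtain ⟨t, ht⟩ := hy'
      rcases Glue2.inl_or_inr_surjective f₁ f₂ y with ⟨a, rfl⟩ | ⟨b, rfl⟩
      · exact (Set.mem_range_self a : pushout.inl f₁ f₂ a ∈ Set.range (pushout.inl f₁ f₂))
      · have hb : (v₂ ≫ U₂.ι) b ∈ U₁ := by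
          rw [Scheme.Hom.comp_apply, ← hι2, ← hg2p, ← ht, hι1]
          exact mem_of_ι_mem t
        obtain ⟨a, rfl⟩ := h₂ b hb
        exact (⟨f₁ a, hcond a⟩ : pushout.inr f₁ f₂ (f₂ a) ∈ Set.range (pushout.inl f₁ f₂))
    · rintro ⟨a, rfl⟩
      exact (⟨v₁ a, (hg1p a).symm⟩ : g (pushout.inl f₁ f₂ a) ∈ Set.range j₁)
  · rw [← hj₂]
    refine (IsOpenImmersion.isPullback v₂ (pushout.inr f₁ f₂) j₂ g hg2 ?_).flip
    ext y
    constructor
    · intro hy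
      have hy' : g y ∈ Set.range j₂ := hy
      obtain ⟨t, ht⟩ := hy'
      rcases Glue2.inl_or_inr_surjective f₁ f₂ y with ⟨a, rfl⟩ | ⟨b, rfl⟩
      · have ha : (v₁ ≫ U₁.ι) a ∈ U₂ := by
          rw [Scheme.Hom.comp_apply, ← hι1, ← hg1p, ← ht, hι2]
          exact mem_of_ι_mem t
        obtain ⟨a', rfl⟩ := h₁ a ha
        exact (⟨f₂ a', (hcond a').symm⟩ : pushout.inl f₁ f₂ (f₁ a') ∈
          Set.range (pushout.inr f₁ f₂))
      · exact (Set.mem_range_self b : pushout.inr f₁ f₂ b ∈ Set.range (pushout.inr f₁ f₂))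
    · rintro ⟨b, rfl⟩
      exact (⟨v₂ b, (hg2p b).symm⟩ : g (pushout.inr f₁ f₂ b) ∈ Set.range j₂)

/-- a property local on the target holds for a morphism to the union of two opens when it holds
for the two restrictions. -/
theorem property_of_two {Y : Scheme.{u}}
    (g : Y ⟶ ((U₁ ⊔ U₂ : X.Opens) : Scheme.{u})) {v₁ : Y₁ ⟶ (U₁ : Scheme.{u})}
    {v₂ : Y₂ ⟶ (U₂ : Scheme.{u})} {p₁ : Y₁ ⟶ Y} {p₂ : Y₂ ⟶ Y}
    (hp₁ : IsPullback p₁ v₁ g (X.homOfLE le_sup_left))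
    (hp₂ : IsPullback p₂ v₂ g (X.homOfLE le_sup_right))
    (P : MorphismProperty Scheme.{u}) [IsZariskiLocalAtTarget P] (hv₁ : P v₁) (hv₂ : P v₂) :
    P g := by
  have hcov : ∀ z : ((U₁ ⊔ U₂ : X.Opens) : Scheme.{u}),
      z ∈ Set.range (X.homOfLE (le_sup_left : U₁ ≤ U₁ ⊔ U₂)) ∨
        z ∈ Set.range (X.homOfLE (le_sup_right : U₂ ≤ U₁ ⊔ U₂)) := by
    rintro ⟨z, hz⟩
    rcases (TopologicalSpace.Opens.mem_sup.mp hz) with h | h
    · exact Or.inl ⟨⟨z, h⟩, X.homOfLE_apply' _ z h⟩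
    · exact Or.inr ⟨⟨z, h⟩, X.homOfLE_apply' _ z h⟩
  refine IsZariskiLocalAtTarget.of_openCover
    (Glue2.twoCover (X.homOfLE (le_sup_left : U₁ ≤ U₁ ⊔ U₂))
      (X.homOfLE (le_sup_right : U₂ ≤ U₁ ⊔ U₂)) hcov) fun t => ?_
  rcases t with _ | _
  · change P (pullback.snd g (X.homOfLE (le_sup_right : U₂ ≤ U₁ ⊔ U₂)))
    rw [← hp₂.isoPullback_inv_snd]
    exact (P.cancel_left_of_respectsIso _ _).mpr hv₂
  · change P (pullback.snd g (X.homOfLE (le_sup_left : U₁ ≤ U₁ ⊔ U₂)))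
    rw [← hp₁.isoPullback_inv_snd]
    exact (P.cancel_left_of_respectsIso _ _).mpr hv₁

end Glue

section Punct

/-- the preimage of an open not containing `x` but containing all its proper generizations under
the canonical morphism from the local scheme at `x` is the punctured spectrum. -/
theorem preimage_fromSpecStalk {X : Scheme.{u}} (U' : X.Opens) (x : X) (hx : x ∉ U')
    (hgen : ∀ y : X, y ⤳ x → y ≠ x → y ∈ U') :
    X.fromSpecStalk x ⁻¹ᵁ U' = FEt.puncturedSpec (X.presheaf.stalk x) := by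
  ext t
  have h1 : t ∈ (FEt.puncturedSpec (X.presheaf.stalk x) : Set _) ↔
      t ≠ IsLocalRing.closedPoint (X.presheaf.stalk x) := Iff.rfl
  refine Iff.trans ?_ h1.symm
  constructor
  · intro ht hc
    have ht' : X.fromSpecStalk x t ∈ U' := ht
    rw [hc, Scheme.fromSpecStalk_closedPoint] at ht'
    exact hx ht'
  · intro ht
    show X.fromSpecStalk x t ∈ U'
    apply hgen
    · have h2 : X.fromSpecStalk x t ∈ Set.range (X.fromSpecStalk x) := ⟨t, rfl⟩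
      rw [Scheme.range_fromSpecStalk] at h2
      exact h2
    · intro hc
      apply ht
      apply (X.fromSpecStalk x).isEmbedding.injective
      rw [hc, Scheme.fromSpecStalk_closedPoint]

/-- purity at the local ring, in terms of the preimage of the open. -/
theorem essSurj_of_purity {X : Scheme.{u}} (U' : X.Opens) (x : X) (hx : x ∉ U')
    (hgen : ∀ y : X, y ⤳ x → y ≠ x → y ∈ U') (hpur : FEt.PurityHolds (X.presheaf.stalk x)) :
    (FEt.restrict (X.fromSpecStalk x ⁻¹ᵁ U').ι).EssSurj := by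
  rw [preimage_fromSpecStalk U' x hx hgen]
  exact hpur

end Punct

end Groth.Agent.Helper7.PurExt
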