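import Mathlib
import Groth.Prelude.Def_FEt
import Groth.Agent.Lib.Helper7.PurExt.Glue
import Groth.Agent.Lib.Helper7.StalkLim.Cone
import Groth.Agent.Lib.Helper7.LimDesc6
import Groth.Agent.Lib.Helper7.LimIso2
import Groth.Agent.Lib.Helper7.FEtDense.Irr

set_option linter.style.haveILetI false
set_option linter.unusedVariables false
set_option linter.unusedSectionVars false
set_option autoImplicit false
set_option backward.isDefEq.respectTransparency.types false
set_option backward.isDefEq.respectTransparency false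
set_option synthInstance.maxHeartbeats 400000
set_option maxHeartbeats 1600000

universe u

/-! helper7: extension of finite etale covers across the points of the complement of an open of
a Noetherian scheme when purity holds for the local rings at these points: the local extension
spreads out to an affine neighbourhood (limit descent) and glues with the given cover; Noetherian
induction on the open -/

open CategoryTheory CategoryTheory.Limits AlgebraicGeometry Opposite TopologicalSpace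

namespace Groth.Agent.Helper7.PurExt

open Groth.Agent.Helper7.StalkLim Groth.Agent.Helper7.LimDesc

/-- the extension step, with the local data made explicit. -/
theorem step_aux {X : Scheme.{u}} [IsNoetherian X] (x : X) (U' : X.Opens) {Y' : Scheme.{u}}
    (v' : Y' ⟶ (U' : Scheme.{u})) [IsFinite v'] [Etale v']
    (P : (nbCone X x).pt.Opens)
    (hP : ∀ t : (nbCone X x).pt, t ∈ P ↔ X.fromSpecStalk x t ∈ U')
    (τ : (P : Scheme.{u}) ⟶ (U' : Scheme.{u})) (hτ : IsPullback τ P.ι U'.ι (X.fromSpecStalk x))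
    {Wt : Scheme.{u}} (w : Wt ⟶ (nbCone X x).pt) (hwfin : IsFinite w) (hwet : Etale w)
    (e : pullback w P.ι ⟶ pullback v' τ) (heiso : IsIso e)
    (he0 : e ≫ pullback.snd v' τ = pullback.snd w P.ι) :
    ∃ (U'' : X.Opens) (hle : U' ≤ U'') (_ : x ∈ U'') (Y'' : Scheme.{u})
      (g'' : Y'' ⟶ (U'' : Scheme.{u})) (_ : IsFinite g'') (_ : Etale g'') (p'' : Y' ⟶ Y''),
      IsPullback p'' v' g'' (X.homOfLE hle) := by
  obtain ⟨hc⟩ := isLimit_nbCone X x
  haveI := hwfin
  haveI := hwet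
  haveI := heiso
  obtain ⟨i₀⟩ := (inferInstance : Nonempty (Nb X x))
  -- a finite etale model of `w` over a stage
  obtain ⟨N₀, -, M₀, hM₀⟩ := exists_model_etale_over hc i₀ w
  obtain ⟨N, φ, hfinM⟩ := M₀.exists_stage_property @IsFinite
    (fun hs => Groth.Agent.Helper7.LimGen.exists_stage_isFinite' (nbDiag X x) (nbCone X x) hc
      M₀.zj (𝟙 _) hs) hwfin
  have hetM : Etale (M₀.stage φ).zj := M₀.stage_property @Etale hM₀ φ
  obtain ⟨M, hM⟩ : ∃ M : Model (nbDiag X x) (nbCone X x) w N, M = M₀.stage φ := ⟨_, rfl⟩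
  rw [← hM] at hfinM hetM
  haveI := hfinM
  haveI := hetM
  -- the inclusion of the stage and the open of the stage
  obtain ⟨ιN, hιN⟩ : ∃ ιN : (nbDiag X x).obj N ⟶ X, ιN = N.1.ι := ⟨_, rfl⟩
  haveI : IsOpenImmersion ιN := by rw [hιN]; exact (inferInstance : IsOpenImmersion N.1.ι)
  obtain ⟨cN, hcN⟩ : ∃ cN : (nbCone X x).pt ⟶ (nbDiag X x).obj N,
      cN = (nbCone X x).π.app N := ⟨_, rfl⟩
  have hMpb : IsPullback M.q w M.zj cN := by rw [hcN]; exact M.isPullback
  have hπι : cN ≫ ιN = X.fromSpecStalk x := by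
    rw [hcN, hιN]; exact nbCone_π_ι X x N
  have hπιp : ∀ t : (nbCone X x).pt, ιN (cN t) = X.fromSpecStalk x t := fun t => by
    have h := congrArg (fun f : (nbCone X x).pt ⟶ X => f t) hπι
    exact h
  obtain ⟨O, hO⟩ : ∃ O : ((nbDiag X x).obj N).Opens, O = ιN ⁻¹ᵁ U' := ⟨_, rfl⟩
  have hOmem : ∀ s : (nbDiag X x).obj N, s ∈ O ↔ ιN s ∈ U' := fun s => by
    rw [hO]; exact Iff.rfl
  haveI : IsLocallyNoetherian ((nbDiag X x).obj N) :=
    (inferInstance : IsLocallyNoetherian (N.1 : Scheme.{u}))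
  haveI : QuasiCompact O.ι := inferInstance
  -- the restriction of the projection to the punctured spectrum
  have hrange : Set.range (P.ι ≫ cN) ⊆ Set.range O.ι := by
    rw [Scheme.Opens.range_ι]
    rintro _ ⟨t, rfl⟩
    show (P.ι ≫ cN) t ∈ O
    rw [hOmem, Scheme.Hom.comp_apply, hπιp, ← hP]
    exact mem_of_ι_mem t
  obtain ⟨ρ, hρ⟩ : ∃ ρ : (P : Scheme.{u}) ⟶ (O : Scheme.{u}),
      ρ ≫ O.ι = P.ι ≫ cN :=
    ⟨IsOpenImmersion.lift O.ι _ hrange, IsOpenImmersion.lift_fac _ _ _⟩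
  have hPO : cN ⁻¹ᵁ O = P := by
    ext t
    exact ((hOmem (cN t)).trans
      ((by rw [hπιp t] : ιN (cN t) ∈ U' ↔ X.fromSpecStalk x t ∈ U').trans
        (hP t).symm))
  have hρpb : IsPullback ρ P.ι O.ι (cN) := by
    refine IsOpenImmersion.isPullback ρ P.ι O.ι _ hρ.symm ?_
    rw [Scheme.Opens.opensRange_ι, Scheme.Opens.opensRange_ι]
    exact hPO
  -- the two base-change squares
  have B1 := (IsPullback.of_hasPullback w P.ι).paste_horiz hMpb
  have hqXc : (pullback.fst w P.ι ≫ M.q) ≫ M.zj = (pullback.snd w P.ι ≫ ρ) ≫ O.ι := by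
    rw [Category.assoc (pullback.snd w P.ι), hρ]
    exact B1.w
  obtain ⟨qX, hqX1, hqX2⟩ : ∃ qX : pullback w P.ι ⟶ pullback M.zj O.ι,
      qX ≫ pullback.fst M.zj O.ι = pullback.fst w P.ι ≫ M.q ∧
        qX ≫ pullback.snd M.zj O.ι = pullback.snd w P.ι ≫ ρ :=
    ⟨pullback.lift _ _ hqXc, pullback.lift_fst _ _ _, pullback.lift_snd _ _ _⟩
  have htop : IsPullback qX (pullback.snd w P.ι) (pullback.snd M.zj O.ι) ρ := by
    refine IsPullback.of_right (h₁₂ := pullback.fst M.zj O.ι) (h₂₂ := O.ι) (v₁₃ := M.zj) ?_ hqX2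
      (IsPullback.of_hasPullback M.zj O.ι)
    rw [hqX1, hρ]
    exact B1
  have hX : IsPullback qX (pullback.snd w P.ι ≫ P.ι) (pullback.snd M.zj O.ι ≫ O.ι)
      (cN) := htop.paste_vert hρpb
  have hYT := (IsPullback.of_hasPullback v' τ).paste_vert hτ
  have hqYc : pullback.fst v' τ ≫ (v' ≫ U'.ι) =
      ((pullback.snd v' τ ≫ P.ι) ≫ cN) ≫ ιN := by
    rw [Category.assoc (pullback.snd v' τ ≫ P.ι), hπι]
    exact hYT.w
  obtain ⟨qY, hqY1, hqY2⟩ : ∃ qY : pullback v' τ ⟶ pullback (v' ≫ U'.ι) ιN,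
      qY ≫ pullback.fst (v' ≫ U'.ι) ιN = pullback.fst v' τ ∧
        qY ≫ pullback.snd (v' ≫ U'.ι) ιN =
          (pullback.snd v' τ ≫ P.ι) ≫ cN :=
    ⟨pullback.lift _ _ hqYc, pullback.lift_fst _ _ _, pullback.lift_snd _ _ _⟩
  have hY : IsPullback qY (pullback.snd v' τ ≫ P.ι) (pullback.snd (v' ≫ U'.ι) ιN)
      (cN) := by
    refine IsPullback.of_right (h₁₂ := pullback.fst (v' ≫ U'.ι) ιN) (h₂₂ := ιN)
      (v₁₃ := v' ≫ U'.ι) ?_ hqY2 (IsPullback.of_hasPullback (v' ≫ U'.ι) ιN)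
    rw [hqY1, hπι]
    exact hYT
  have he : e ≫ (pullback.snd v' τ ≫ P.ι) = pullback.snd w P.ι ≫ P.ι := by
    rw [← Category.assoc, he0]
  subst hcN
  -- descent of the isomorphism to a stage
  haveI : QuasiCompact (v' ≫ U'.ι) := inferInstance
  obtain ⟨N', θ, fm, hfmiso, hfm, -⟩ := Groth.Agent.Helper7.LimIso.exists_iso_descend'
    (nbDiag X x) (nbCone X x) hc N (pullback.snd M.zj O.ι ≫ O.ι) (pullback.snd (v' ≫ U'.ι) ιN)
    hX hY e he
  haveI := hfmiso
  obtain ⟨ιN', hιN'⟩ : ∃ ιN' : (nbDiag X x).obj N' ⟶ X, ιN' = N'.1.ι := ⟨_, rfl⟩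
  have hθι : (nbDiag X x).map θ ≫ ιN = ιN' := by
    rw [hιN, hιN']
    exact X.homOfLE_ι (Subtype.coe_le_coe.mpr (leOfHom θ))
  haveI : IsOpenImmersion ((nbDiag X x).map θ) :=
    (inferInstance : IsOpenImmersion (X.homOfLE (Subtype.coe_le_coe.mpr (leOfHom θ))))
  obtain ⟨z', hz'⟩ : ∃ z' : pullback M.zj ((nbDiag X x).map θ) ⟶ (nbDiag X x).obj N',
      z' = pullback.snd M.zj ((nbDiag X x).map θ) := ⟨_, rfl⟩
  have hz'fin : IsFinite z' := by rw [hz']; infer_instance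
  have hz'et : Etale z' := by rw [hz']; infer_instance
  -- the two open immersions of the common piece
  have hcondO : pullback.fst M.zj O.ι ≫ M.zj = pullback.snd M.zj O.ι ≫ O.ι := pullback.condition
  obtain ⟨f₂, hf₂⟩ : ∃ f₂ : pullback (pullback.snd M.zj O.ι ≫ O.ι) ((nbDiag X x).map θ) ⟶
      pullback M.zj ((nbDiag X x).map θ),
      f₂ = pullback.map (pullback.snd M.zj O.ι ≫ O.ι) ((nbDiag X x).map θ) M.zj
        ((nbDiag X x).map θ) (pullback.fst M.zj O.ι) (𝟙 _) (𝟙 _)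
        (by rw [Category.comp_id, hcondO]) (by rw [Category.comp_id, Category.id_comp]) :=
    ⟨_, rfl⟩
  haveI : IsOpenImmersion f₂ := by rw [hf₂]; infer_instance
  have hf₂2 : f₂ ≫ pullback.snd M.zj ((nbDiag X x).map θ) =
      pullback.snd (pullback.snd M.zj O.ι ≫ O.ι) ((nbDiag X x).map θ) := by
    rw [hf₂, pullback.lift_snd, Category.comp_id]
  obtain ⟨k, hk⟩ : ∃ k : pullback (pullback.snd (v' ≫ U'.ι) ιN) ((nbDiag X x).map θ) ⟶ Y',
      k = pullback.fst (pullback.snd (v' ≫ U'.ι) ιN) ((nbDiag X x).map θ) ≫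
        pullback.fst (v' ≫ U'.ι) ιN := ⟨_, rfl⟩
  have hkpb : IsPullback k (pullback.snd (pullback.snd (v' ≫ U'.ι) ιN) ((nbDiag X x).map θ))
      (v' ≫ U'.ι) ιN' := by
    have h0 := (IsPullback.of_hasPullback (pullback.snd (v' ≫ U'.ι) ιN)
      ((nbDiag X x).map θ)).paste_horiz (IsPullback.of_hasPullback (v' ≫ U'.ι) ιN)
    rw [hθι, ← hk] at h0
    exact h0
  haveI : IsOpenImmersion k := by rw [hk]; infer_instance
  obtain ⟨f₁, hf₁⟩ : ∃ f₁ : pullback (pullback.snd M.zj O.ι ≫ O.ι) ((nbDiag X x).map θ) ⟶ Y',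
      f₁ = fm ≫ k := ⟨_, rfl⟩
  haveI : IsOpenImmersion f₁ := by rw [hf₁]; infer_instance
  have hcomm : f₁ ≫ v' ≫ U'.ι = f₂ ≫ z' ≫ ιN' := by
    rw [hf₁, Category.assoc, hkpb.w, ← Category.assoc fm, hfm, hz', ← Category.assoc f₂, hf₂2]
  have h₂ : ∀ y : ↥(pullback M.zj ((nbDiag X x).map θ)), (z' ≫ ιN') y ∈ U' →
      y ∈ Set.range f₂ := by
    intro y hy
    have e1 : z' ≫ ιN' = pullback.fst M.zj ((nbDiag X x).map θ) ≫ M.zj ≫ ιN := by
      rw [hz', ← hθι, ← Category.assoc (pullback.snd M.zj ((nbDiag X x).map θ)),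
        ← pullback.condition, Category.assoc]
    rw [e1, Scheme.Hom.comp_apply, Scheme.Hom.comp_apply] at hy
    rw [hf₂, Scheme.Pullback.range_map]
    refine ⟨?_, ⟨pullback.snd M.zj ((nbDiag X x).map θ) y, rfl⟩⟩
    show pullback.fst M.zj ((nbDiag X x).map θ) y ∈ Set.range (pullback.fst M.zj O.ι)
    rw [Scheme.Pullback.range_fst, Scheme.Opens.range_ι]
    show M.zj (pullback.fst M.zj ((nbDiag X x).map θ) y) ∈ O
    rw [hOmem]
    exact hy
  have h₁ : ∀ y : ↥Y', (v' ≫ U'.ι) y ∈ N'.1 → y ∈ Set.range f₁ := by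
    intro y hy
    obtain ⟨b, hb, -⟩ := Scheme.exists_preimage_of_isPullback hkpb y
      (⟨(v' ≫ U'.ι) y, hy⟩ : N'.1) (by rw [hιN']; rfl)
    have hb' : fm (inv fm b) = b := by
      rw [← Scheme.Hom.comp_apply, IsIso.inv_hom_id]
      rfl
    refine ⟨inv fm b, ?_⟩
    rw [hf₁, Scheme.Hom.comp_apply, hb']
    exact hb
  subst hιN'
  obtain ⟨Y'', g'', p₁, p₂, hp₁, hp₂⟩ := exists_glue U' N'.1 v' z' f₁ f₂ hcomm h₁ h₂
  refine ⟨U' ⊔ N'.1, le_sup_left, TopologicalSpace.Opens.mem_sup.mpr (Or.inr N'.2.2), Y'', g'',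
    ?_, ?_, p₁, hp₁⟩
  · exact property_of_two U' N'.1 g'' hp₁ hp₂ @IsFinite inferInstance hz'fin
  · exact property_of_two U' N'.1 g'' hp₁ hp₂ @Etale inferInstance hz'et

/-- the extension step: a finite etale cover of an open extends across a point of the
complement all of whose proper generizations lie in the open, when purity holds for the local
ring at this point. -/
theorem step {X : Scheme.{u}} [IsNoetherian X] (U' : X.Opens) {Y' : Scheme.{u}}
    (v' : Y' ⟶ (U' : Scheme.{u})) [IsFinite v'] [Etale v'] (x : X) (hx : x ∉ U')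
    (hgen : ∀ y : X, y ⤳ x → y ≠ x → y ∈ U') (hpur : FEt.PurityHolds (X.presheaf.stalk x)) :
    ∃ (U'' : X.Opens) (hle : U' ≤ U'') (_ : x ∈ U'') (Y'' : Scheme.{u})
      (g'' : Y'' ⟶ (U'' : Scheme.{u})) (_ : IsFinite g'') (_ : Etale g'') (p'' : Y' ⟶ Y''),
      IsPullback p'' v' g'' (X.homOfLE hle) := by
  have hess := essSurj_of_purity U' x hx hgen hpur
  obtain ⟨Wo, ⟨ε⟩⟩ := hess.mem_essImage ((FEt.restrict (X.fromSpecStalk x ∣_ U')).obj
    (MorphismProperty.Over.mk ⊤ v' ⟨inferInstance, inferInstance⟩))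
  have hiso : IsIso ε.hom.left :=
    ⟨ε.inv.left, congrArg (fun φ => φ.left) ε.hom_inv_id,
      congrArg (fun φ => φ.left) ε.inv_hom_id⟩
  exact step_aux x U' v' (X.fromSpecStalk x ⁻¹ᵁ U') (fun t => Iff.rfl)
    (X.fromSpecStalk x ∣_ U') (isPullback_morphismRestrict _ _) Wo.hom Wo.prop.1 Wo.prop.2
    ε.hom.left hiso (Over.w ε.hom.hom)

/-- restriction of finite etale covers to an open of a Noetherian scheme is essentially
surjective when purity holds for the local rings at the points of the complement. -/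
theorem main {X : Scheme.{u}} [IsNoetherian X] (U : X.Opens)
    (h : ∀ x : X, x ∉ U → FEt.PurityHolds (X.presheaf.stalk x)) :
    (FEt.restrict U.ι).EssSurj := by
  refine ⟨fun V => ?_⟩
  obtain ⟨v, hv⟩ : ∃ v : V.left ⟶ (U : Scheme.{u}), v = V.hom := ⟨_, rfl⟩
  haveI hvfin : IsFinite v := by rw [hv]; exact V.prop.1
  haveI hvet : Etale v := by rw [hv]; exact V.prop.2
  obtain ⟨Q, hQ⟩ : ∃ Q : Set X.Opens, Q = {U' | ∃ (hle : U ≤ U') (Y : Scheme.{u})
      (g : Y ⟶ (U' : Scheme.{u})) (_ : IsFinite g) (_ : Etale g) (p : V.left ⟶ Y),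
      IsPullback p v g (X.homOfLE hle)} := ⟨_, rfl⟩
  have hne : Q.Nonempty := by
    refine ⟨U, ?_⟩
    rw [hQ]
    refine ⟨le_rfl, V.left, v, inferInstance, inferInstance, 𝟙 _, ?_⟩
    rw [X.homOfLE_rfl]
    exact IsPullback.of_id_fst
  obtain ⟨U', hU'Q, hmax⟩ := (inferInstance : WellFoundedGT X.Opens).wf.has_min Q hne
  rw [hQ] at hU'Q
  obtain ⟨hle, Y, g, hgfin, hget, p, hpb⟩ := hU'Q
  by_cases htop : U' = ⊤
  · subst htop
    have hsq : IsPullback (X.homOfLE hle) (𝟙 (U : Scheme.{u})) (⊤ : X.Opens).ι U.ι :=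
      IsPullback.of_vert_isIso_mono ⟨by rw [X.homOfLE_ι, Category.id_comp]⟩
    have hpb2 := hpb.paste_vert hsq
    rw [Category.comp_id, hv] at hpb2
    haveI : IsIso (⊤ : X.Opens).ι := inferInstanceAs (IsIso X.topIso.hom)
    have hfin2 : IsFinite (g ≫ (⊤ : X.Opens).ι) := inferInstance
    have het2 : Etale (g ≫ (⊤ : X.Opens).ι) := inferInstance
    have j : V ≅ (FEt.restrict U.ι).obj
        (MorphismProperty.Over.mk ⊤ (g ≫ (⊤ : X.Opens).ι) ⟨hfin2, het2⟩) :=
      MorphismProperty.Over.isoMk hpb2.isoPullback hpb2.isoPullback_hom_snd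
    exact Functor.essImage.ofIso j.symm (Functor.obj_mem_essImage _ _)
  · exfalso
    obtain ⟨x₀, hx₀⟩ : ∃ x₀ : X, x₀ ∉ U' := by
      by_contra hcon
      apply htop
      rw [eq_top_iff]
      intro y _
      by_contra hy
      exact hcon ⟨y, hy⟩
    obtain ⟨ζ, hζZ, -, hζmax⟩ := Groth.Agent.Helper7.FEtDense.exists_maximal_point
      ((U' : Set X)ᶜ) U'.2.isClosed_compl x₀ hx₀
    have hζU' : ζ ∉ U' := hζZ
    have hpur := h ζ (fun hζU => hζU' (hle hζU))
    obtain ⟨U'', hle', hζ'', Y'', g'', hfin'', het'', p'', hpb''⟩ := step U' g ζ hζU'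
      (fun y hy hne => by
        by_contra hyU
        exact hne (hζmax y hyU hy)) hpur
    refine hmax U'' ?_ (lt_of_le_of_ne hle' ?_)
    · rw [hQ]
      refine ⟨hle.trans hle', Y'', g'', hfin'', het'', p ≫ p'', ?_⟩
      have h3 := hpb.paste_horiz hpb''
      rw [X.homOfLE_homOfLE] at h3
      exact h3
    · intro heq
      apply hζU'
      rw [heq]
      exact hζ''

end Groth.Agent.Helper7.PurExt
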